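import Cfsg.Agent.H792.SpHeis_m3
import Cfsg.Agent.FixBN.HeStab
import Cfsg.Agent.KFacts.He.TwoA_m3
import Cfsg.Agent.FastGrp
import Cfsg.Agent.Prune
set_option linter.all false
prune_inst 0x7f00000000000000000000000000000000000000000000000000000000000000000000000000000000000000000000000000000000000000000000000000000000000000000000000000000000000000003fffffffffffffffffffffffffffbeffbdffffffff
open scoped Cfsg.Agent.FastGrp

-- part: H415/Heis
section
/-!
# Sylow subgroups of order `p ^ 3` generated by conjugates of a central element (helper415)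

`fullP_of_heis` : `p ^ 4 ∤ |G|`, `u`, `v` of order `p`, `w = [u, v] ≠ 1` commutes with `u` and `v`, and `w` is conjugate to
`u` and to `v`: then `FullP p G`.
-/

set_option autoImplicit false

namespace Cfsg.Agent.H415.Heis

open Subgroup Cfsg Cfsg.Agent.H749 Cfsg.Agent.H792.SpTool

variable {p : ℕ} [hp : Fact p.Prime] {G : Type*} [Group G] [Finite G]

omit [Finite G] in
/-- a noncommutative `p`-group has order at least `p ^ 3` -/
theorem card_ge {Q : Subgroup G} [Finite Q] (hQ : IsPGroup p Q) {a b : G} (ha : a ∈ Q) (hb : b ∈ Q) (hab : a * b ≠ b * a) :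
    p ^ 3 ≤ Nat.card Q := by
  obtain ⟨n, hn⟩ := IsPGroup.iff_card.mp hQ
  rw [hn]
  refine Nat.pow_le_pow_right hp.out.pos ?_
  by_contra h
  have h3 : n < 3 := by omega
  apply hab
  interval_cases n
  · have h1 : Q = ⊥ := Subgroup.card_eq_one.1 (by simpa using hn)
    rw [h1, mem_bot] at ha hb
    rw [ha, hb]
  · have h1 : Nat.card Q = p := by simpa using hn
    have hc : IsCyclic Q := isCyclic_of_prime_card h1
    have h2 := (IsCyclic.commutative (α := Q)).is_comm.comm (⟨a, ha⟩ : Q) ⟨b, hb⟩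
    exact congrArg Subtype.val h2
  · have hcom := IsPGroup.isMulCommutative_of_card_eq_prime_sq hn
    exact congrArg Subtype.val (hcom.is_comm.comm (⟨a, ha⟩ : Q) ⟨b, hb⟩)

/-- the centre of a noncommutative Sylow subgroup of order `p ^ 3`: a nontrivial class contains its elements -/
theorem central_mem (h4 : ¬ p ^ 4 ∣ Nat.card G) (S : Sylow p G) {a b : G} (ha : a ∈ (S : Subgroup G))
    (hb : b ∈ (S : Subgroup G)) (hab : a * b ≠ b * a) {P : G → Prop} (hP : PCl p P) {x : G} (hx : PEl p x) (hx1 : x ≠ 1)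
    (hPx : P x) {w : G} (hw : w ∈ (S : Subgroup G)) (hwc : ∀ s ∈ (S : Subgroup G), s * w = w * s) : P w := by
  have hS : Nat.card (S : Subgroup G) ≤ p ^ 3 := by
    obtain ⟨n, hn⟩ := IsPGroup.iff_card.mp S.2
    rw [hn]
    refine Nat.pow_le_pow_right hp.out.pos ?_
    by_contra h
    exact h4 ((pow_dvd_pow p (by omega : 4 ≤ n)).trans (by rw [← hn]; exact Subgroup.card_subgroup_dvd_card _))
  obtain ⟨d, hd, hd1, hdc⟩ := H280.StrongFusion.exists_mem_center S (part_closed hP S) (part_ne_bot hP S hx hx1 hPx)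
  let Z := (S : Subgroup G) ⊓ centralizer ((S : Subgroup G) : Set G)
  have hdZ : d ∈ Z := mem_inf.2 ⟨hd.1, mem_centralizer_iff.2 fun s hs => hdc s hs⟩
  have hwZ : w ∈ Z := mem_inf.2 ⟨hw, mem_centralizer_iff.2 fun s hs => hwc s hs⟩
  have hZp : IsPGroup p Z := S.2.to_le inf_le_left
  have haZ : a ∉ Z := fun h => hab ((mem_centralizer_iff.1 (mem_inf.1 h).2) b hb).symm
  -- `C_S(a)` is a proper subgroup of `S`, and properly contains `Z`
  let C := (S : Subgroup G) ⊓ centralizer ({a} : Set G)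
  have hZC : Z ≤ C := fun z hz => mem_inf.2 ⟨(mem_inf.1 hz).1, mem_centralizer_singleton_iff.2
    ((mem_centralizer_iff.1 (mem_inf.1 hz).2) a ha).symm⟩
  have haC : a ∈ C := mem_inf.2 ⟨ha, mem_centralizer_singleton_iff.2 rfl⟩
  have hCp : IsPGroup p C := S.2.to_le inf_le_left
  obtain ⟨k, hk⟩ := IsPGroup.iff_card.mp hZp
  obtain ⟨l, hl⟩ := IsPGroup.iff_card.mp hCp
  have h1 : Nat.card Z < Nat.card C := by
    refine lt_of_le_of_ne (Nat.le_of_dvd Nat.card_pos (Subgroup.card_dvd_of_le hZC)) fun h => haZ ?_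
    rw [Subgroup.eq_of_le_of_card_ge hZC h.ge]
    exact haC
  have h2 : Nat.card C < Nat.card (S : Subgroup G) := by
    refine lt_of_le_of_ne (Nat.le_of_dvd Nat.card_pos (Subgroup.card_dvd_of_le inf_le_left)) fun h => hab ?_
    have hCS : C = (S : Subgroup G) := Subgroup.eq_of_le_of_card_ge inf_le_left h.ge
    have hb' : b ∈ C := by
      rw [hCS]
      exact hb
    exact (mem_centralizer_singleton_iff.1 (mem_inf.1 hb').2).symm
  have hlt : ∀ {i j : ℕ}, p ^ i < p ^ j → i < j := fun h => (Nat.pow_lt_pow_iff_right hp.out.one_lt).1 h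
  have h3 : l < 3 := hlt (by rw [← hl]; exact lt_of_lt_of_le h2 hS)
  have h4' : k < l := hlt (by rw [← hk, ← hl]; exact h1)
  have hZcard : Nat.card Z ∣ p := by
    rw [hk]
    calc p ^ k ∣ p ^ 1 := pow_dvd_pow p (by omega)
      _ = p := pow_one p
  -- so `Z = ⟨d⟩`
  have hZd : Z = zpowers d := by
    refine (Subgroup.eq_of_le_of_card_ge (zpowers_le.2 hdZ) ?_).symm
    have h5 : Nat.card (zpowers d) ∣ p := (Subgroup.card_dvd_of_le (zpowers_le.2 hdZ)).trans hZcard
    rcases (Nat.dvd_prime hp.out).1 h5 with h6 | h6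
    · rw [Subgroup.card_eq_one, zpowers_eq_bot] at h6
      exact absurd h6 hd1
    · rw [h6]
      exact Nat.le_of_dvd hp.out.pos hZcard
  have hw' : w ∈ zpowers d := by rw [← hZd]; exact hwZ
  have hle : zpowers d ≤ part hP S := zpowers_le.2 hd
  exact (hle hw').2

/-- **Extraspecial groups generated by conjugates of a central element.** -/
theorem fullP_of_heis (h4 : ¬ p ^ 4 ∣ Nat.card G) {u v w g h : G} (hu : u ^ p = 1) (huv : u * v = w * (v * u))
    (huw : u * w = w * u) (hvw : v * w = w * v) (hw1 : w ≠ 1) (hg : g * w = u * g) (hh : h * w = v * h) : FullP p G := by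
  have eg : g * w * g⁻¹ = u := by rw [hg, mul_inv_cancel_right]
  have eh : h * w * h⁻¹ = v := by rw [hh, mul_inv_cancel_right]
  have hup : PEl p u := ⟨1, by rwa [pow_one]⟩
  have hwp : PEl p w := by
    have h1 := hup.conj g⁻¹
    rwa [← eg, show g⁻¹ * (g * w * g⁻¹) * g⁻¹⁻¹ = w by group] at h1
  have hvp : PEl p v := by
    have h1 := hwp.conj h
    rwa [eh] at h1
  have hab : u * v ≠ v * u := by
    intro h5
    apply hw1
    rw [h5] at huv
    exact (mul_eq_right.1 huv.symm)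
  -- the subgroup generated by `u`, `v` is a `p`-group
  let A := closure ({u, w} : Set G)
  have hA : IsPGroup p A := isPGroup_pair hup hwp huw
  have hvA : v ∈ normalizer (A : Set G) := by
    refine Transfer.FusionBasic.mem_normalizer_of_conj_mem fun x hx => ?_
    have h5 : A ≤ A.comap (MulAut.conj v).toMonoidHom := by
      refine (closure_le _).2 ?_
      rintro y (rfl | rfl)
      · show v * y * v⁻¹ ∈ A
        have h6 : v * y * v⁻¹ = w⁻¹ * y := by
          rw [eq_inv_mul_iff_mul_eq, ← mul_assoc, ← huv, mul_inv_cancel_right]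
        rw [h6]
        exact mul_mem (inv_mem (subset_closure (by simp))) (subset_closure (by simp))
      · show v * y * v⁻¹ ∈ A
        rw [hvw, mul_inv_cancel_right]
        exact subset_closure (by simp)
    exact h5 hx
  have hQ : IsPGroup p (A ⊔ zpowers v : Subgroup G) :=
    hA.to_sup_of_normal_left' (isPGroup_zpowers hvp) (zpowers_le.2 hvA)
  obtain ⟨S, hS⟩ := hQ.exists_le_sylow
  have huS : u ∈ (S : Subgroup G) := hS (mem_sup_left (subset_closure (by simp)))
  have hwS : w ∈ (S : Subgroup G) := hS (mem_sup_left (subset_closure (by simp)))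
  have hvS : v ∈ (S : Subgroup G) := hS (mem_sup_right (mem_zpowers v))
  have hScard : Nat.card (S : Subgroup G) ≤ p ^ 3 := by
    obtain ⟨n, hn⟩ := IsPGroup.iff_card.mp S.2
    rw [hn]
    refine Nat.pow_le_pow_right hp.out.pos ?_
    by_contra h
    exact h4 ((pow_dvd_pow p (by omega : 4 ≤ n)).trans (by rw [← hn]; exact Subgroup.card_subgroup_dvd_card _))
  -- any subgroup of `S` containing `u` and `v` is `S`
  have key : ∀ T : Subgroup G, T ≤ (S : Subgroup G) → u ∈ T → v ∈ T → T = (S : Subgroup G) := fun T hT h5 h6 =>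
    Subgroup.eq_of_le_of_card_ge hT (hScard.trans (card_ge (S.2.to_le hT) h5 h6 hab))
  have hwc : ∀ s ∈ (S : Subgroup G), s * w = w * s := by
    have h5 := key ((S : Subgroup G) ⊓ centralizer ({w} : Set G)) inf_le_left
      (mem_inf.2 ⟨huS, mem_centralizer_singleton_iff.2 huw⟩) (mem_inf.2 ⟨hvS, mem_centralizer_singleton_iff.2 hvw⟩)
    intro s hs
    rw [← h5] at hs
    exact mem_centralizer_singleton_iff.1 (mem_inf.1 hs).2
  rintro P hP ⟨x, hx, hx1, hPx⟩ y hy
  have hPw : P w := central_mem h4 S huS hvS hab hP hx hx1 hPx hwS hwc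
  have hPu : P u := by rw [← eg]; exact hP.conj g hPw
  have hPv : P v := by rw [← eh]; exact hP.conj h hPw
  have h5 := key (part hP S) (part_closed hP S).1 ⟨huS, hPu⟩ ⟨hvS, hPv⟩
  refine all_of_sylow hP S (fun s hs => ?_) hy
  rw [← h5] at hs
  exact hs.2

end Cfsg.Agent.H415.Heis
end

-- part: H415/HeRows
section
/-!
# `FullP` for the Held group at `p = 3` and `p = 7` (helper415)
-/

set_option autoImplicit false
set_option maxRecDepth 100000

namespace Cfsg.Agent.H415.HeRows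

open Subgroup Cfsg
open Cfsg.Spor.He (Gen)
open Cfsg.Spor.He.Gen
open Cfsg.Agent.SporadicB.HePerm (act wd)
open Cfsg.Agent.FixBN.HeStab Cfsg.Agent.KFacts.He.Lv Cfsg.Agent.H415.Heis Cfsg.Agent.CpAutHe.Cnt

/-- an involutory word read backwards is its inverse; here: `U V = W V U`, etc. checked on the base -/
theorem fullP_of_words {p : ℕ} [Fact p.Prime] (h4 : ¬ p ^ 4 ∣ 4030387200) (U V W Gw Hw : List Gen) (i : Fin 2058)
    (h1 : chkB (pw U p) [] = true) (h2 : chkB (U ++ V) (W ++ (V ++ U)) = true) (h3 : chkB (U ++ W) (W ++ U) = true)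
    (h5 : chkB (V ++ W) (W ++ V) = true) (h6 : Nat.beq (act W i) i = false) (h7 : chkB (Gw ++ W) (U ++ Gw) = true)
    (h8 : chkB (Hw ++ W) (V ++ Hw) = true) : Cfsg.Agent.H749.FullP p Cfsg.Spor.He := by
  have hfin : Finite Cfsg.Spor.He := finite_he
  have e1 := eq_of_chkB h1
  have e2 := eq_of_chkB h2
  have e3 := eq_of_chkB h3
  have e5 := eq_of_chkB h5
  have e7 := eq_of_chkB h7
  have e8 := eq_of_chkB h8
  rw [wd_pw, wd_nil] at e1
  rw [wd_append, wd_append, wd_append] at e2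
  rw [wd_append, wd_append] at e3 e5 e7 e8
  refine fullP_of_heis (u := wd U) (v := wd V) (w := wd W) (g := wd Gw) (h := wd Hw) ?_ e1 e2 e3 e5 ?_ e7 e8
  · rw [card_he]; exact h4
  · intro he
    rw [act_eq, he, map_one] at h6
    have h9 : Nat.beq (i : ℕ) (i : ℕ) = true := Nat.beq_refl _
    have h10 : Nat.beq (i : ℕ) (i : ℕ) = false := h6
    rw [h9] at h10
    exact absurd h10 (by decide)

/-- **The Held group at `p = 3`.** -/
theorem full_he_three : Cfsg.Agent.H749.FullP 3 Cfsg.Spor.He := by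
  have : Fact (Nat.Prime 3) := ⟨by norm_num⟩
  refine fullP_of_words (p := 3) (by norm_num) [d,e] [c,d,b,c,d,e,c,b,d,c]
    [d,e,c,d,b,c,d,e,c,b,d,c,e,d,c,d,b,c,e,d,c,b,d,c] [c,b,g,d,c,d,f,c,d,c,d,f,a] [d,c,f,d,c,d,f,c,d,c,d,g]
    32 ?_ ?_ ?_ ?_ ?_ ?_ ?_
  all_goals decide +kernel

/-- **The Held group at `p = 7`.** -/
theorem full_he_seven : Cfsg.Agent.H749.FullP 7 Cfsg.Spor.He := by
  have : Fact (Nat.Prime 7) := ⟨by norm_num⟩
  refine fullP_of_words (p := 7) (by norm_num) [b,d,e,c,b,d,e,c,b,d,e,c]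
    [f,d,c,d,c,d,f,b,d,e,c,b,d,e,c,b,d,e,c,f,d,c,d,c,d,f]
    [b,d,e,c,b,d,e,c,b,d,e,c,f,d,c,d,c,d,f,b,d,e,c,b,d,e,c,b,d,e,c,f,d,c,d,c,d,f,c,e,d,b,c,e,d,b,c,e,d,b,f,d,c,d,c,d,f,c,e,d,b,c,e,d,b,c,e,d,b,f,d,c,d,c,d,f]
    [g,f,d,c,d,e,d,b,c,d,f,b,c,d,c] [b,a,e,d,c,b,g,d,c,d,b,c,d,g,d,b]
    0 ?_ ?_ ?_ ?_ ?_ ?_ ?_
  all_goals decide +kernel

end Cfsg.Agent.H415.HeRows
end
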